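import Groth.Agent.Lib.Dim.Scheme
import Groth.Agent.Lib.AlgSp.Dim
import Groth.Agent.Lib.Chow.Main
import Mathlib.AlgebraicGeometry.AffineSpace
import Mathlib.RingTheory.NoetherNormalization

/-!
# Dimension by finite and surjective maps to affine spaces
-/

set_option autoImplicit false
set_option linter.all false
set_option backward.isDefEq.respectTransparency false

universe u

open CategoryTheory CategoryTheory.Limits AlgebraicGeometry TopologicalSpace Topology

noncomputable section

namespace GrothLib.DimFin29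

variable {k : Type u} [Field k]

/-- A dense open has full dimension. -/
theorem topologicalKrullDim_dense {X : Scheme.{u}} (f : X ⟶ Spec (CommRingCat.of k)) [LocallyOfFiniteType f]
    [QuasiCompact f] {U : X.Opens} (hU : Dense (U : Set X)) :
    topologicalKrullDim U = topologicalKrullDim X := by
  haveI : IsLocallyNoetherian X := LocallyOfFiniteType.isLocallyNoetherian f
  haveI : CompactSpace X := QuasiCompact.compactSpace_of_compactSpace f
  haveI : IsNoetherian X := {}
  refine le_antisymm (topologicalKrullDim_subspace_le X U) (iSup_le fun l => ?_)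
  obtain ⟨Z, hZ, hlZ⟩ := exists_mem_irreducibleComponents_subset_of_isIrreducible
    (l.last : Set X) l.last.isIrreducible
  have hZc : IsClosed Z := isClosed_of_mem_irreducibleComponents Z hZ
  obtain ⟨n, hn, hnU⟩ := GrothLib.Dim.exists_nat_dim_irreducible f hZc hZ.1
  have hmeet : (Z ∩ (U : Set X)).Nonempty := by
    obtain ⟨O, hO, hOne, hOZ⟩ : ∃ O : Set X, IsOpen O ∧ (O ∩ Z).Nonempty ∧ O ⊆ Z := by
      refine ⟨(⋃₀ (irreducibleComponents (X : Type u) \ {Z}))ᶜ, ?_, ?_, ?_⟩
      · have hfin : (irreducibleComponents (X : Type u) \ {Z}).Finite :=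
          TopologicalSpace.NoetherianSpace.finite_irreducibleComponents.subset Set.diff_subset
        rw [Set.sUnion_eq_biUnion]
        exact (hfin.isClosed_biUnion fun S hS => isClosed_of_mem_irreducibleComponents S hS.1).isOpen_compl
      · by_contra hne
        have hsub : Z ⊆ ⋃₀ (irreducibleComponents (X : Type u) \ {Z}) := fun z hz => by
          by_contra h; exact hne ⟨z, h, hz⟩
        obtain ⟨S, hS, hZS⟩ := (isIrreducible_iff_sUnion_isClosed.1 hZ.1)
          ((TopologicalSpace.NoetherianSpace.finite_irreducibleComponents.subset Set.diff_subset).toFinset)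
          (fun S hS => isClosed_of_mem_irreducibleComponents S ((Set.Finite.mem_toFinset _).1 hS).1)
          (by rwa [Set.Finite.coe_toFinset])
        have hS' := (Set.Finite.mem_toFinset _).1 hS
        exact hS'.2 (hZS.antisymm' (hZ.2 hS'.1.1 hZS))
      · intro z hz
        obtain ⟨S, hS, hzS⟩ : ∃ S ∈ irreducibleComponents (X : Type u), z ∈ S :=
          ⟨irreducibleComponent z, irreducibleComponent_mem_irreducibleComponents z, mem_irreducibleComponent⟩
        by_contra hzZ
        exact hz ⟨S, ⟨hS, fun h => hzZ (h ▸ hzS)⟩, hzS⟩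
    obtain ⟨y, hy⟩ := hOne
    obtain ⟨u, huO, huU⟩ := hU.inter_open_nonempty O hO ⟨y, hy.1⟩
    exact ⟨u, hOZ huO, huU⟩
  refine le_trans ?_ ((IsEmbedding.inclusion (Set.inter_subset_right : Z ∩ (U : Set X) ⊆ U)).isInducing.topologicalKrullDim_le)
  rw [hnU U hmeet, ← hn]
  have hsub : ∀ j, (l j : Set X) ⊆ Z := fun j =>
    Set.Subset.trans (SetLike.coe_subset_coe.2 (show l j ≤ l.last from l.monotone (Fin.le_last j))) hlZ
  let e : ∀ j, IrreducibleCloseds Z := fun j =>
    { carrier := Subtype.val ⁻¹' (l j : Set X)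
      isIrreducible' := by
        refine ⟨?_, fun O₁ O₂ h₁ h₂ ⟨a, ha, ha₁⟩ ⟨b, hb, hb₂⟩ => ?_⟩
        · obtain ⟨x, hx⟩ := (l j).isIrreducible.1
          exact ⟨⟨x, hsub j hx⟩, hx⟩
        · obtain ⟨O₁', ho₁, rfl⟩ := isOpen_induced_iff.1 h₁
          obtain ⟨O₂', ho₂, rfl⟩ := isOpen_induced_iff.1 h₂
          obtain ⟨x, hx, hx'⟩ := (l j).isIrreducible.2 O₁' O₂' ho₁ ho₂ ⟨a.1, ha, ha₁⟩ ⟨b.1, hb, hb₂⟩
          exact ⟨⟨x, hsub j hx⟩, hx, hx'⟩
      isClosed' := (l j).isClosed.preimage continuous_subtype_val }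
  let l' : LTSeries (IrreducibleCloseds Z) :=
    { length := l.length
      toFun := e
      step := fun j => by
        have hlt : l j.castSucc < l j.succ := l.step j
        show e j.castSucc < e j.succ
        refine lt_iff_le_not_ge.2 ⟨fun x (hx : x.1 ∈ l j.castSucc) => hlt.le hx, fun hge => hlt.not_ge ?_⟩
        intro x hx
        exact hge (show (⟨x, hsub _ hx⟩ : Z) ∈ e _ from hx) }
  exact le_iSup (fun L : LTSeries (IrreducibleCloseds Z) => (L.length : WithBot ℕ∞)) l'

variable (k) in
/-- Polynomials in `n` variables. -/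
abbrev PR (n : ℕ) := MvPolynomial (ULift.{u} (Fin n)) k

theorem ringKrullDim_mvPoly (n : ℕ) : ringKrullDim (PR k n) = n := by
  rw [MvPolynomial.ringKrullDim_of_isNoetherianRing, ringKrullDim_eq_zero_of_field, zero_add, Nat.card_ulift,
    Nat.card_fin]

/-- Noether normalisation on a dense affine open. -/
theorem exists_dense_noether {X : Scheme.{u}} (f : X ⟶ Spec (CommRingCat.of k)) [LocallyOfFiniteType f]
    [QuasiCompact f] [Nonempty X] :
    ∃ (U : X.Opens) (d : ℕ) (g : (U : Scheme.{u}) ⟶ Spec (CommRingCat.of (PR k d))),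
      Dense (U : Set X) ∧ topologicalKrullDim X = d ∧ IsFinite g ∧ Function.Surjective g.base ∧
      g ≫ Spec.map (CommRingCat.ofHom MvPolynomial.C) = U.ι ≫ f := by
  haveI : IsLocallyNoetherian X := LocallyOfFiniteType.isLocallyNoetherian f
  haveI : CompactSpace X := QuasiCompact.compactSpace_of_compactSpace f
  haveI : IsNoetherian X := {}
  obtain ⟨x⟩ := ‹Nonempty X›
  obtain ⟨U, hU, hxU, hUd⟩ := GrothLib.Chow.exists_dense_affine
    TopologicalSpace.NoetherianSpace.finite_irreducibleComponents x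
  obtain ⟨ψ, hψ, hψe⟩ := GrothLib.Dim.exists_finiteType_specMap f hU
  algebraize [ψ.hom]
  haveI : Algebra.FiniteType k Γ(X, U) := hψ
  haveI : Nonempty U := ⟨⟨x, hxU⟩⟩
  haveI : Nontrivial Γ(X, U) := inferInstance
  obtain ⟨d, ν, hinj, hfin⟩ := exists_finite_inj_algHom_of_fg k Γ(X, U)
  let ν' : (PR k d) →ₐ[k] Γ(X, U) := ν.comp (MvPolynomial.renameEquiv k Equiv.ulift).toAlgHom
  have hinj' : Function.Injective ν' := hinj.comp (MvPolynomial.renameEquiv k Equiv.ulift).injective
  have hfin' : ν'.toRingHom.Finite := RingHom.Finite.comp hfin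
    (RingHom.Finite.of_surjective _ (MvPolynomial.renameEquiv k Equiv.ulift).surjective)
  refine ⟨U, d, hU.isoSpec.hom ≫ Spec.map (CommRingCat.ofHom ν'.toRingHom), hUd, ?_, ?_, ?_, ?_⟩
  · rw [← topologicalKrullDim_dense f hUd, GrothLib.Dim.topologicalKrullDim_affineOpen hU, ← ringKrullDim_mvPoly (k := k) d]
    letI := ν'.toRingHom.toAlgebra
    haveI : Module.Finite (PR k d) Γ(X, U) := hfin'
    haveI : Algebra.IsIntegral (PR k d) Γ(X, U) := Algebra.IsIntegral.of_finite _ _
    exact GrothLib.Dim.ringKrullDim_eq_of_isIntegral (R := (PR k d)) hinj'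
  · haveI : IsFinite (Spec.map (CommRingCat.ofHom ν'.toRingHom)) := (IsFinite.SpecMap_iff _).2 hfin'
    infer_instance
  · have h1 : Function.Surjective (Spec.map (CommRingCat.ofHom ν'.toRingHom)).base := by
      letI := ν'.toRingHom.toAlgebra
      haveI : Module.Finite (PR k d) Γ(X, U) := hfin'
      haveI : Algebra.IsIntegral (PR k d) Γ(X, U) := Algebra.IsIntegral.of_finite _ _
      haveI : FaithfulSMul (PR k d) Γ(X, U) := (faithfulSMul_iff_algebraMap_injective _ _).2 hinj'
      exact Algebra.IsIntegral.comap_surjective (R := (PR k d)) (S := Γ(X, U))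
    show Function.Surjective fun z => (Spec.map (CommRingCat.ofHom ν'.toRingHom)).base (hU.isoSpec.hom.base z)
    exact h1.comp hU.isoSpec.hom.homeomorph.surjective
  · rw [Category.assoc, ← Spec.map_comp, ← CommRingCat.ofHom_comp]
    have : (ν'.toRingHom.comp MvPolynomial.C) = ψ.hom := ν'.comp_algebraMap
    rw [this, CommRingCat.ofHom_hom, ← hψe, IsAffineOpen.fromSpec]
    simp

/-- Polynomial rings in fewer variables are quotients. -/
theorem exists_finite_to_affine {d n : ℕ} (h : d ≤ n) :
    ∃ c : Spec (CommRingCat.of (PR k d)) ⟶ Spec (CommRingCat.of (PR k n)),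
      IsFinite c ∧ c ≫ Spec.map (CommRingCat.ofHom MvPolynomial.C) = Spec.map (CommRingCat.ofHom MvPolynomial.C) := by
  let r : (PR k n) →ₐ[k] (PR k d) := MvPolynomial.aeval fun i =>
    if hi : i.down.1 < d then MvPolynomial.X (ULift.up ⟨i.down.1, hi⟩) else 0
  have hr : Function.Surjective r := by
    intro p
    refine ⟨MvPolynomial.rename (fun i => ULift.up (Fin.castLE h i.down)) p, ?_⟩
    rw [MvPolynomial.aeval_rename]
    conv_rhs => rw [← MvPolynomial.aeval_X_left_apply p]
    congr 2
    funext i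
    simp
  refine ⟨Spec.map (CommRingCat.ofHom r.toRingHom), (IsFinite.SpecMap_iff _).2 (RingHom.Finite.of_surjective _ hr), ?_⟩
  rw [← Spec.map_comp, ← CommRingCat.ofHom_comp]
  congr 2
  exact r.comp_algebraMap

/-- Projections of affine spaces. -/
theorem exists_surjective_to_affine {d n : ℕ} (h : n ≤ d) :
    ∃ c : Spec (CommRingCat.of (PR k d)) ⟶ Spec (CommRingCat.of (PR k n)),
      Function.Surjective c.base ∧ c ≫ Spec.map (CommRingCat.ofHom MvPolynomial.C) = Spec.map (CommRingCat.ofHom MvPolynomial.C) := by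
  let r : (PR k n) →ₐ[k] (PR k d) := MvPolynomial.rename fun i => ULift.up (Fin.castLE h i.down)
  let s : (PR k d) →ₐ[k] (PR k n) := MvPolynomial.aeval fun i =>
    if hi : i.down.1 < n then MvPolynomial.X (ULift.up ⟨i.down.1, hi⟩) else 0
  have hsr : s.toRingHom.comp r.toRingHom = RingHom.id _ := by
    refine RingHom.ext fun p => ?_
    show MvPolynomial.aeval _ (MvPolynomial.rename _ p) = p
    rw [MvPolynomial.aeval_rename]
    conv_rhs => rw [← MvPolynomial.aeval_X_left_apply p]
    congr 2
    funext i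
    simp
  refine ⟨Spec.map (CommRingCat.ofHom r.toRingHom), fun y => ⟨Spec.map (CommRingCat.ofHom s.toRingHom) y, ?_⟩, ?_⟩
  · rw [← Scheme.Hom.comp_apply, ← Spec.map_comp, ← CommRingCat.ofHom_comp, hsr, CommRingCat.ofHom_id, Spec.map_id]
    rfl
  · rw [← Spec.map_comp, ← CommRingCat.ofHom_comp]
    congr 2
    exact r.comp_algebraMap

/-- A scheme with a surjection to affine `n`-space has dimension at least `n`. -/
theorem le_dim_of_surjective {U : Scheme.{u}} {n : ℕ} (g : U ⟶ Spec (CommRingCat.of (PR k n)))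
    [LocallyOfFiniteType (g ≫ Spec.map (CommRingCat.ofHom (MvPolynomial.C (R := k))))]
    (hg : Function.Surjective g.base) : (n : WithBot ℕ∞) ≤ topologicalKrullDim U := by
  let q := g ≫ Spec.map (CommRingCat.ofHom (MvPolynomial.C (R := k)))
  obtain ⟨x, hx⟩ := hg (⊥ : PrimeSpectrum (PR k n))
  obtain ⟨V, hV, hxV, -⟩ := exists_isAffineOpen_mem_and_subset (show x ∈ (⊤ : U.Opens) from trivial)
  let φ := Spec.preimage (hV.fromSpec ≫ g)
  obtain ⟨ψ, hψ, hψe⟩ := GrothLib.Dim.exists_finiteType_specMap q hV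
  have hC : CommRingCat.ofHom (MvPolynomial.C (R := k)) ≫ φ = ψ := Spec.map_injective (by
    rw [Spec.map_comp, Spec.map_preimage, ← hψe, Category.assoc])
  algebraize [ψ.hom]
  haveI : Algebra.FiniteType k Γ(U, V) := hψ
  let p := (hV.primeIdealOf ⟨x, hxV⟩)
  let D := Γ(U, V) ⧸ p.asIdeal
  let χ : (PR k n) →ₐ[k] D :=
    { (Ideal.Quotient.mk p.asIdeal).comp φ.hom with
      commutes' := fun a => congrArg (fun e => Ideal.Quotient.mk p.asIdeal (e.hom a)) hC }
  have hχ : Function.Injective χ := by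
    refine (injective_iff_map_eq_zero χ).2 fun a ha => ?_
    have h1 : a ∈ p.asIdeal.comap φ.hom := Ideal.mem_comap.2 (Ideal.Quotient.eq_zero_iff_mem.1 (show Ideal.Quotient.mk p.asIdeal (φ.hom a) = 0 from ha))
    have h2 : Spec.map φ p = (⊥ : PrimeSpectrum (PR k n)) := by
      rw [Spec.map_preimage, Scheme.Hom.comp_apply, hV.fromSpec_primeIdealOf]
      exact hx
    have h3 : a ∈ (Spec.map φ p).asIdeal := h1
    rw [h2] at h3
    exact h3
  obtain ⟨m, hm, hdim⟩ := GrothLib.Dim.exists_nat_trdeg_eq_and_ringKrullDim_eq k D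
  have h3 : Algebra.trdeg k (PR k n) ≤ Algebra.trdeg k D := trdeg_le_of_injective χ hχ
  rw [hm, MvPolynomial.trdeg_of_isDomain] at h3
  have hnm : n ≤ m := by simpa using h3
  refine le_trans ?_ ((topologicalKrullDim_subspace_le U V))
  refine le_trans ?_ (GrothLib.Dim.topologicalKrullDim_affineOpen hV).ge
  refine le_trans ?_ (ringKrullDim_quotient_le p.asIdeal)
  rw [hdim]
  exact_mod_cast hnm

/-- A scheme finite over affine `n`-space has dimension at most `n`. -/
theorem dim_le_of_finite {U : Scheme.{u}} {n : ℕ} (g : U ⟶ Spec (CommRingCat.of (PR k n))) [IsFinite g] :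
    topologicalKrullDim U ≤ n := by
  refine (GrothLib.AlgSp.topologicalKrullDim_le_of_isIntegralHom (f := g)).trans ?_
  exact ((PrimeSpectrum.topologicalKrullDim_eq_ringKrullDim (PR k n)).trans (ringKrullDim_mvPoly n)).le

end GrothLib.DimFin29
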